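import Cfsg.Agent.Lib.Recog.NonCA.Fusion
import Cfsg.Agent.Lib.Recog.NonCA.PSLCover
import Cfsg.Agent.Lib.Perm.AbelianZStar
import Cfsg.Agent.Lib.InvolConj.Homocyclic
import Cfsg.Agent.Lib.Block.HomocyclicBrauer

/-!
A bad 2-element in a perfect group: the Sylow 2-subgroup is a four-group `⟨t, u⟩`, permuted
cyclically by its normaliser, and `C(t) = ⟨t, u⟩ K` with `K` normal of odd order.
-/

set_option autoImplicit false
set_option linter.unusedSectionVars false
set_option maxHeartbeats 4000000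

namespace CfsgLib.Recog.NonCA

universe u

/-- An abelian 2-group with three involutions, transitively permuted by automorphisms, is the
square of a cyclic group. -/
theorem square_of_three_invols {A : Type u} [CommGroup A] [Finite A] (hA : IsPGroup 2 A)
    {a b c : A} (hab : a ≠ b) (ha : a ≠ 1 ∧ a * a = 1) (hb : b ≠ 1 ∧ b * b = 1)
    (hall : ∀ x : A, x * x = 1 → x = 1 ∨ x = a ∨ x = b ∨ x = c)
    (htrans : ∀ x y : A, x ≠ 1 → x ^ 2 = 1 → y ≠ 1 → y ^ 2 = 1 → ∃ φ : MulAut A, φ x = y) :
    ∃ m : ℕ, 1 ≤ m ∧ Nonempty (A ≃* Multiplicative (ZMod (2 ^ m) × ZMod (2 ^ m))) := by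
  classical
  have : Nontrivial A := ⟨⟨a, 1, ha.1⟩⟩
  obtain ⟨m, r, ⟨e⟩⟩ := CfsgLib.InvolConj.exists_homocyclic_equiv hA htrans
  have hm : 1 ≤ m := by
    by_contra h
    obtain rfl : m = 0 := by omega
    refine ha.1 (e.injective (funext fun i => ?_))
    have : Subsingleton (ZMod (2 ^ 0)) := by rw [pow_zero]; infer_instance
    exact Subsingleton.elim (α := ZMod (2 ^ 0)) _ _
  have : NeZero (2 ^ m) := ⟨by positivity⟩
  set Y := Multiplicative (ZMod (2 ^ m)) with hY
  set s : Y := Multiplicative.ofAdd ((2 ^ (m - 1) : ℕ) : ZMod (2 ^ m)) with hs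
  have hs1 : s ≠ 1 := by
    intro h
    have h' : ((2 ^ (m - 1) : ℕ) : ZMod (2 ^ m)) = 0 := h
    rw [ZMod.natCast_eq_zero_iff] at h'
    have := (Nat.pow_dvd_pow_iff_le_right (by norm_num : 1 < 2)).1 h'
    omega
  have hs2 : s * s = 1 := by
    show Multiplicative.ofAdd _ = Multiplicative.ofAdd (0 : ZMod (2 ^ m))
    congr 1
    show ((2 ^ (m - 1) : ℕ) : ZMod (2 ^ m)) + ((2 ^ (m - 1) : ℕ) : ZMod (2 ^ m)) = 0
    rw [← Nat.cast_add, ← two_mul, ← pow_succ', show m - 1 + 1 = m by omega, ZMod.natCast_self]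
  have hr : r = 2 := by
    rcases r with _ | _ | _ | r
    · exact absurd (e.injective (Subsingleton.elim (e a) (e 1))) ha.1
    · exfalso
      let e1 : A ≃* Y := e.trans
        { toFun := fun f => f 0
          invFun := fun y _ => y
          left_inv := fun f => funext fun i => by
            have : i = 0 := Fin.ext (by omega)
            rw [this]
          right_inv := fun y => rfl
          map_mul' := fun f g => rfl }
      have : IsCyclic A := isCyclic_of_surjective e1.symm e1.symm.surjective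
      let _ : Fintype A := Fintype.ofFinite A
      have hle := IsCyclic.card_pow_eq_one_le (α := A) (n := 2) two_pos
      have h3 : ({1, a, b} : Finset A).card ≤ 2 := by
        refine le_trans (Finset.card_le_card fun x hx => ?_) hle
        simp only [Finset.mem_insert, Finset.mem_singleton] at hx
        simp only [Finset.mem_filter, Finset.mem_univ, true_and, pow_two]
        rcases hx with rfl | rfl | rfl
        exacts [one_mul 1, ha.2, hb.2]
      simp [Ne.symm ha.1, Ne.symm hb.1, hab] at h3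
    · rfl
    · exfalso
      let v : Fin (r + 3) → A := fun i => e.symm (Pi.mulSingle i s)
      have hev : ∀ i, e (v i) = Pi.mulSingle i s := fun i => e.apply_symm_apply _
      have hne : ∀ i, v i ≠ 1 := fun i h => hs1 (by
        have := congrFun ((hev i).symm.trans (by rw [h, map_one])) i
        simpa using this)
      have hsq : ∀ i, v i * v i = 1 := fun i => e.injective (by
        rw [map_mul, hev, ← Pi.mulSingle_mul, hs2, Pi.mulSingle_one, map_one])
      have hinj : ∀ i j, v i = v j → i = j := fun i j h => by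
        by_contra hij
        have := congrFun ((hev i).symm.trans ((congrArg e h).trans (hev j))) i
        rw [Pi.mulSingle_eq_same, Pi.mulSingle_eq_of_ne hij] at this
        exact hs1 this
      have h12 : v 0 * v 1 ≠ 1 := fun h => by
        have h2 : v 0 = v 1 := by
          calc v 0 = v 0 * (v 1 * v 1) := by rw [hsq, mul_one]
            _ = v 1 := by rw [← mul_assoc, h, one_mul]
        exact absurd (hinj _ _ h2) (by simp)
      have h12' : v 0 * v 1 * (v 0 * v 1) = 1 := by rw [mul_mul_mul_comm, hsq, hsq, one_mul]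
      have k02 : (0 : Fin (r + 3)) ≠ 2 := Fin.ne_of_val_ne (by rw [Fin.val_two]; simp)
      have k12 : (1 : Fin (r + 3)) ≠ 2 := Fin.ne_of_val_ne (by rw [Fin.val_two]; simp)
      let f : Fin 4 → A := ![v 0, v 1, v 2, v 0 * v 1]
      have hf : Function.Injective f := by
        have h01 : v 0 ≠ v 1 := fun h => absurd (hinj _ _ h) (by simp)
        have h02 : v 0 ≠ v 2 := fun h => absurd (hinj _ _ h) k02
        have h1_2 : v 1 ≠ v 2 := fun h => absurd (hinj _ _ h) k12
        have h03 : v 0 ≠ v 0 * v 1 := fun h => hne 1 (by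
          exact (mul_left_cancel ((mul_one _).trans h)).symm)
        have h13 : v 1 ≠ v 0 * v 1 := fun h => hne 0 (by
          exact (mul_right_cancel ((one_mul _).trans h)).symm)
        have h23 : v 2 ≠ v 0 * v 1 := fun h => by
          have := congrArg (fun x => e x 2) h
          simp only [map_mul, hev, Pi.mul_apply] at this
          rw [Pi.mulSingle_eq_same, Pi.mulSingle_eq_of_ne k02.symm,
            Pi.mulSingle_eq_of_ne k12.symm, one_mul] at this
          exact hs1 this
        intro i j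
        fin_cases i <;> fin_cases j <;>
          simp [f, h01, h02, h1_2, h03, h13, h23, h01.symm, h02.symm, h1_2.symm, h03.symm,
            h13.symm, h23.symm]
      have hsub : Finset.univ.image f ⊆ ({a, b, c} : Finset A) := by
        intro x hx
        obtain ⟨i, -, rfl⟩ := Finset.mem_image.1 hx
        have hx' : f i ≠ 1 ∧ f i * f i = 1 := by
          fin_cases i
          exacts [⟨hne _, hsq _⟩, ⟨hne _, hsq _⟩, ⟨hne _, hsq _⟩, ⟨h12, h12'⟩]
        simp only [Finset.mem_insert, Finset.mem_singleton]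
        rcases hall _ hx'.2 with h | h | h | h
        exacts [absurd h hx'.1, Or.inl h, Or.inr (Or.inl h), Or.inr (Or.inr h)]
      have := Finset.card_le_card hsub
      rw [Finset.card_image_of_injective _ hf, Finset.card_univ, Fintype.card_fin] at this
      have h3 : ({a, b, c} : Finset A).card ≤ 3 := Finset.card_le_three
      omega
  subst hr
  exact ⟨m, hm, ⟨e.trans
    { toFun := fun f => Multiplicative.ofAdd ((f 0).toAdd, (f 1).toAdd)
      invFun := fun p => ![Multiplicative.ofAdd p.toAdd.1, Multiplicative.ofAdd p.toAdd.2]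
      left_inv := fun f => by funext i; fin_cases i <;> rfl
      right_inv := fun p => rfl
      map_mul' := fun f g => rfl }⟩⟩

variable {G : Type u} [Group G] [Finite G]

local notation "cen(" x ")" => Subgroup.centralizer ({x} : Set G)
local notation "Z(G)" => Subgroup.center G

/-- The configuration of a bad involution `t` in a perfect group. -/
structure Frame (t u n : G) (K : Subgroup G) : Prop where
  bad : Bad t
  tt : t * t = 1
  uu : u * u = 1
  u_ne : u ≠ 1
  tu_ne : t ≠ u
  htu : t * u = u * t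
  hn1 : n * t * n⁻¹ = u
  hn2 : n * u * n⁻¹ = t * u
  hnM : n ∉ cen(t)
  hu : ∃ m ∈ cen(t), m * u ≠ u * m
  hKM : K ≤ cen(t)
  hKodd : Odd (Nat.card K)
  hKn : ∀ m ∈ cen(t), ∀ k ∈ K, m * k * m⁻¹ ∈ K
  decomp : ∀ m ∈ cen(t), ∃ w, (w = 1 ∨ w = t ∨ w = u ∨ w = t * u) ∧ ∃ k ∈ K, m = w * k
  zodd : Odd (Nat.card Z(G))
  sylow : ∃ P : Sylow 2 G, (P : Subgroup G) = Subgroup.zpowers t ⊔ Subgroup.zpowers u

theorem eq_one_of_center {z : G} (hz : Odd (Nat.card Z(G))) (hzZ : z ∈ Z(G)) {k : ℕ}
    (hk : z ^ 2 ^ k = 1) : z = 1 := by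
  have h1 := orderOf_dvd_of_pow_eq_one hk
  have h2 : orderOf z ∣ Nat.card Z(G) := by
    rw [← Subgroup.orderOf_mk z hzZ]; exact orderOf_dvd_natCard _
  have hco : Nat.Coprime (2 ^ k) (Nat.card Z(G)) :=
    Nat.Coprime.pow_left k (Nat.coprime_two_left.2 hz)
  exact orderOf_eq_one_iff.1 (Nat.eq_one_of_dvd_coprimes hco h1 h2)

theorem Hyp.exists_frame (hG : Hyp G) (hperf : commutator G = ⊤) {x : G} (hx : Bad x) {k : ℕ}
    (hk : x ^ 2 ^ k = 1) : ∃ (t u n : G) (K : Subgroup G), Frame t u n K := by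
  classical
  have : Fact (Nat.Prime 2) := ⟨Nat.prime_two⟩
  have hPc := hG.sylow_two_comm hx hk
  have hZ : Odd (Nat.card Z(G)) := by
    rw [← Nat.not_even_iff_odd, even_iff_two_dvd]
    exact not_dvd_center_of_sylow_comm hperf hPc
  obtain ⟨t, hw, ⟨j, hj⟩, hw2, -⟩ := hG.exists_sq_mem hx hk
  have htt : t * t = 1 :=
    eq_one_of_center hZ hw2 (k := j) (by rw [← pow_two, ← pow_mul, mul_comm, pow_mul, hj, one_pow])
  obtain ⟨P, hP⟩ := hw.sylow_two_le hG hw2 hj
  have hab : ∀ a ∈ (P : Subgroup G), ∀ b ∈ (P : Subgroup G), a * b = b * a := comm_iff.1 (hPc P)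
  have hmaxP : ∀ y : G, (∃ i : ℕ, y ^ 2 ^ i = 1) →
      y ∈ Subgroup.normalizer ((P : Subgroup G) : Set G) → y ∈ (P : Subgroup G) := by
    rintro y ⟨i, hy⟩ hN
    obtain ⟨i', -, hi'⟩ := (Nat.dvd_prime_pow Nat.prime_two).1 (orderOf_dvd_of_pow_eq_one hy)
    have hp : IsPGroup 2 (Subgroup.zpowers y) :=
      IsPGroup.of_card (n := i') (by rw [Nat.card_zpowers, hi'])
    have hs := hp.to_sup_of_normal_right' P.2 (Subgroup.zpowers_le.2 hN)
    rw [← P.is_maximal' hs le_sup_right]
    exact Subgroup.mem_sup_left (Subgroup.mem_zpowers y)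
  have htP : t ∈ (P : Subgroup G) := hmaxP t ⟨j, hj⟩ (Subgroup.mem_normalizer_iff.2 fun r => by
    constructor
    · intro hr
      rwa [← mem_cen.1 (hP hr), mul_inv_cancel_right]
    · intro hr
      have h := mem_cen.1 (hP hr)
      have e : t * r * t⁻¹ * t = t * r := by group
      rw [e, ← mul_assoc] at h
      have e2 : r = t * r * t⁻¹ := by
        have := congrArg (t⁻¹ * ·) h
        simp only [← mul_assoc, inv_mul_cancel, one_mul] at this
        calc r = t * (t * r * t⁻¹) * t⁻¹ := by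
              rw [show t * (t * r * t⁻¹) * t⁻¹ = (t * t) * r * (t * t)⁻¹ by group, htt]; group
          _ = t * r * t⁻¹ := by
              rw [show t * (t * r * t⁻¹) = t * r * t⁻¹ * t from (mem_cen.1 (hP hr)).symm,
                mul_inv_cancel_right]
      exact e2 ▸ hr)
  -- the Z*-theorem moves `t`
  set π := QuotientGroup.mk' Z(G) with hπ
  have := hG.quot_simple hperf
  have hO : Cfsg.oddCore (G ⧸ Z(G)) = ⊥ := by
    have : (Cfsg.oddCore (G ⧸ Z(G))).Normal := CfsgLib.Solvable.pPrimeCore_normal 2 _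
    exact hG.quot_solvable_eq_bot
      (CfsgLib.FT.odd_order_solvable (CfsgLib.Invol.odd_card_oddCore _))
  have hPinj : ∀ r ∈ (P : Subgroup G), r ∈ Z(G) → r = 1 := fun r hr hrZ => by
    obtain ⟨i, hi⟩ := P.2 ⟨r, hr⟩
    exact eq_one_of_center hZ hrZ (k := i) (congrArg Subtype.val hi)
  set Pb := P.mapSurjective (f := π) (QuotientGroup.mk'_surjective Z(G)) with hPb
  have hPbe : (Pb : Subgroup (G ⧸ Z(G))) = (P : Subgroup G).map π := by
    rw [hPb, Sylow.coe_mapSurjective]
  have hPbc : IsMulCommutative (Pb : Subgroup (G ⧸ Z(G))) := by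
    rw [comm_iff, hPbe]
    rintro _ ⟨a, ha, rfl⟩ _ ⟨b, hb, rfl⟩
    rw [← map_mul, hab a ha b hb, map_mul]
  obtain ⟨n, hnN, hnt⟩ : ∃ n ∈ Subgroup.normalizer ((P : Subgroup G) : Set G),
      n * t * n⁻¹ ≠ t := by
    by_contra hno
    push Not at hno
    refine hw.1 ((QuotientGroup.eq_one_iff t).1 (Subgroup.mem_bot.1 (hG.quot_center ▸
      CfsgLib.Perm.AbelianZStar.mem_center hO Pb (c := π t)
        (by show π t ∈ (Pb : Subgroup (G ⧸ Z(G))); rw [hPbe]; exact Subgroup.mem_map_of_mem π htP)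
        fun q hq => ?_)))
    obtain ⟨g, rfl⟩ := QuotientGroup.mk'_surjective Z(G) q
    have hg : g ∈ Subgroup.normalizer ((P : Subgroup G) : Set G) := by
      have key : ∀ {g : G}, π g ∈ Subgroup.normalizer ((Pb : Subgroup (G ⧸ Z(G))) : Set (G ⧸ Z(G))) →
          ∀ r ∈ (P : Subgroup G), g * r * g⁻¹ ∈ (P : Subgroup G) := by
        intro g hg r hr
        have h1 : π g * π r * (π g)⁻¹ ∈ (Pb : Subgroup (G ⧸ Z(G))) :=
          (Subgroup.mem_normalizer_iff.1 hg (π r)).1 (by rw [hPbe]; exact Subgroup.mem_map_of_mem π hr)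
        rw [hPbe, ← map_inv, ← map_mul, ← map_mul] at h1
        obtain ⟨s, hs, hse⟩ := Subgroup.mem_map.1 h1
        set z := s⁻¹ * (g * r * g⁻¹) with hz
        have hzZ : z ∈ Z(G) := (QuotientGroup.eq_one_iff z).1 (by
          show π z = 1; rw [hz, map_mul, map_inv, hse, inv_mul_cancel])
        obtain ⟨i, hi⟩ := P.2 ⟨r, hr⟩
        obtain ⟨i', hi'⟩ := P.2 ⟨s, hs⟩
        have hsz : g * r * g⁻¹ = s * z := by rw [hz]; group
        have hz1 : z = 1 := by
          refine eq_one_of_center hZ hzZ (k := i + i') ?_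
          have h2 : (s * z) ^ 2 ^ (i + i') = 1 := by
            rw [← hsz, conj_pow, pow_add, pow_mul,
              show r ^ 2 ^ i = 1 from congrArg Subtype.val hi, one_pow, mul_one, mul_inv_cancel]
          rwa [(show Commute s z from mem_center.1 hzZ s).mul_pow, pow_add, mul_comm, pow_mul,
            show s ^ 2 ^ i' = 1 from congrArg Subtype.val hi', one_pow, one_mul, mul_comm,
            ← pow_add] at h2
        rw [hsz, hz1, mul_one]
        exact hs
      refine Subgroup.mem_normalizer_iff.2 fun r => ⟨key hq r, fun hr => ?_⟩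
      have := key (g := g⁻¹) (by rw [map_inv]; exact inv_mem hq) _ hr
      rwa [show g⁻¹ * (g * r * g⁻¹) * g⁻¹⁻¹ = r by group] at this
    rw [← map_inv, ← map_mul, ← map_mul, hno g hg]
  set u := n * t * n⁻¹ with hudef
  have hconjP : ∀ r ∈ (P : Subgroup G), n * r * n⁻¹ ∈ (P : Subgroup G) := fun r hr =>
    (Subgroup.mem_normalizer_iff.1 hnN r).1 hr
  have huP : u ∈ (P : Subgroup G) := hconjP t htP
  have hnM : n ∉ cen(t) := fun h => hnt (by rw [hudef, mem_cen.1 h, mul_inv_cancel_right])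
  have htM : t ∈ cen(t) := self_mem_cen t
  -- the normaliser of `P` in `M` centralises `P`
  have hNP : Subgroup.normalizer ((P : Subgroup G) : Set G) ≠ ⊤ := by
    refine hG.normalizer_ne_top htP hw.1 ?_
    exact Group.isSolvable_of_comm fun a b => Subtype.ext (hab a a.2 b b.2)
  set R : Sylow 2 cen(t) := P.subtype hP with hR
  have hRmem : ∀ r : cen(t), r ∈ (R : Subgroup cen(t)) ↔ (r : G) ∈ (P : Subgroup G) := fun r => by
    rw [hR, Sylow.coe_subtype, Subgroup.mem_subgroupOf]
  have hncM : Subgroup.normalizer ((R : Subgroup cen(t)) : Set cen(t)) ≤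
      Subgroup.centralizer ((R : Subgroup cen(t)) : Set cen(t)) := by
    intro m hm
    refine Subgroup.mem_centralizer_iff.2 fun r hr => Subtype.ext ?_
    have hRmap : (R : Subgroup cen(t)).map (cen(t)).subtype = (P : Subgroup G) := by
      rw [hR, Sylow.coe_subtype, Subgroup.map_subgroupOf_eq_of_le hP]
    exact hG.commute_of hNP (Subgroup.le_normalizer htP)
      (Subgroup.le_normalizer ((hRmem r).1 hr)) (hRmap ▸ mem_normalizer_map hm) hnN
      (mem_cen.1 r.2) (mem_cen.1 m.2) fun e => hnM (mem_cen.2 e)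
  set K0 := (MonoidHom.transferSylow R hncM).ker with hK0
  have hKc := MonoidHom.ker_transferSylow_isComplement' R hncM
  have hKodd : Odd (Nat.card K0) := by
    rw [← Nat.not_even_iff_odd, even_iff_two_dvd]
    exact MonoidHom.not_dvd_card_ker_transferSylow R hncM
  have hdec : ∀ m ∈ cen(t), ∃ k : K0, ∃ r ∈ (P : Subgroup G), m = ((k : cen(t)) : G) * r := by
    intro m hm
    obtain ⟨⟨k, r⟩, hkr, -⟩ := hKc.existsUnique ⟨m, hm⟩
    exact ⟨k, ((r : cen(t)) : G), (hRmem _).1 r.2, (congrArg Subtype.val hkr).symm⟩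
  -- the part of `P` central in `M`
  set r1 : G → Prop := fun r => r ∈ (P : Subgroup G) ∧ ∀ m ∈ cen(t), m * r = r * m with hr1
  have r1_mul : ∀ {a b : G}, r1 a → r1 b → r1 (a * b) := fun ha hb =>
    ⟨mul_mem ha.1 hb.1, fun m hm =>
      ((show Commute m _ from ha.2 m hm).mul_right (hb.2 m hm)).eq⟩
  have hcenr : ∀ {r}, r1 r → r ≠ 1 → cen(r) = cen(t) := fun {r} hr hne =>
    hw.eq_of_mem hG (fun h => hne (hPinj r hr.1 h)) hr.2
  have hsep : ∀ {s}, r1 s → s ≠ 1 → ¬ r1 (n * s * n⁻¹) := fun {s} hs hne h => by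
    have hne' : n * s * n⁻¹ ≠ 1 := fun e => hne (conj_eq_one_iff.1 e)
    have e1 := hcenr h hne'
    rw [cen_conj, hcenr hs hne] at e1
    exact hnM (hw.normalizer_eq hG e1)
  have ht1 : r1 t := ⟨htP, fun m hm => mem_cen.1 hm⟩
  have htne : t ≠ 1 := fun e => hw.1 (e ▸ one_mem Z(G))
  have hu1 : ¬ r1 u := hsep ht1 htne
  have key : ∀ {a b}, a ∈ (P : Subgroup G) → b ∈ (P : Subgroup G) → ¬ r1 a → ¬ r1 b →
      r1 (a * a) → r1 (b * b) → r1 (a * b) := by
    intro a b ha hb hna hnb ha2 hb2
    by_contra hnab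
    apply hna
    refine ⟨ha, fun m hm => ?_⟩
    have happ : ∀ (v : cen(t)) (k : K0),
        (((MulAut.conjNormal v k : K0) : cen(t)) : G) = v * (k : cen(t)) * (v : G)⁻¹ :=
      fun v k => by rw [MulAut.conjNormal_apply]; rfl
    have hext : ∀ {k l : K0}, ((k : cen(t)) : G) = ((l : cen(t)) : G) → k = l := fun h =>
      Subtype.ext (Subtype.ext h)
    have hfixed : ∀ {v}, v ∈ (P : Subgroup G) → ¬ r1 v → ∀ c ∈ cen(t), c * v = v * c →
        c * a = a * c := by
      intro v hv hnv c hc hcv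
      obtain ⟨h', hh', hne'⟩ : ∃ h' ∈ cen(t), h' * v ≠ v * h' := by
        by_contra hcon
        push Not at hcon
        exact hnv ⟨hv, hcon⟩
      exact hG.commute_of hw.ne_top (hP hv) hc (hP ha) hh' hcv (hab a ha v hv) hne'
    let aM : cen(t) := ⟨a, hP ha⟩
    let bM : cen(t) := ⟨b, hP hb⟩
    have hinv : ∀ v : cen(t), r1 ((v : G) * v) → ∀ k : K0,
        MulAut.conjNormal v (MulAut.conjNormal v k) = k := fun v hv k => hext (by
      rw [happ, happ]
      calc (v : G) * (v * (k : cen(t)) * (v : G)⁻¹) * (v : G)⁻¹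
          = (v : G) * v * (k : cen(t)) * ((v : G) * v)⁻¹ := by group
        _ = ((k : cen(t)) : G) := by rw [← hv.2 _ (k : cen(t)).2, mul_inv_cancel_right])
    have hfix : ∀ v : cen(t), (v : G) ∈ (P : Subgroup G) → ¬ r1 (v : G) → ∀ k : K0,
        MulAut.conjNormal v k = k → MulAut.conjNormal aM k = k := fun v hv hnv k hk => hext (by
      have h1 : ((k : cen(t)) : G) * v = v * (k : cen(t)) :=
        (mul_inv_eq_iff_eq_mul.1 ((happ v k).symm.trans (by rw [hk]))).symm
      rw [happ, ← hfixed hv hnv _ (k : cen(t)).2 h1, mul_inv_cancel_right])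
    have hall := fixed_of_four hKodd (MulAut.conjNormal aM) (MulAut.conjNormal bM)
      (hinv aM ha2) (hinv bM hb2)
      (fun k => by
        rw [← MulAut.mul_apply, ← map_mul, show aM * bM = bM * aM from Subtype.ext (hab a ha b hb),
          map_mul, MulAut.mul_apply])
      (hfix bM hb hnb)
      (fun k hk => hfix (aM * bM) (mul_mem ha hb) hnab k
        (by rw [map_mul, MulAut.mul_apply]; exact hk))
    obtain ⟨c, r, hr, rfl⟩ := hdec m hm
    have hc : Commute ((c : cen(t)) : G) a :=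
      (mul_inv_eq_iff_eq_mul.1 ((happ aM c).symm.trans (by rw [hall c]))).symm
    exact (hc.mul_left (hab r hr a ha)).eq
  have hone : r1 (1 : G) := ⟨one_mem _, fun m _ => by rw [mul_one, one_mul]⟩
  -- three involutions
  have hR1 : ∀ j, r1 j → j * j = 1 → j = 1 ∨ j = t := by
    intro j hj hj2
    by_contra hne
    push Not at hne
    have hjt : r1 (j * t) := r1_mul hj ht1
    have hjt1 : j * t ≠ 1 := fun e => hne.2 (by
      calc j = j * (t * t) := by rw [htt, mul_one]
        _ = t := by rw [← mul_assoc, e, one_mul])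
    refine hsep hjt hjt1 ?_
    have e : n * (j * t) * n⁻¹ = n * j * n⁻¹ * u := by rw [hudef]; group
    rw [e]
    refine key (hconjP j hj.1) huP (hsep hj hne.1) hu1 ?_ ?_
    · rw [show n * j * n⁻¹ * (n * j * n⁻¹) = n * (j * j) * n⁻¹ by group, hj2, mul_one,
        mul_inv_cancel]
      exact hone
    · rw [hudef, show n * t * n⁻¹ * (n * t * n⁻¹) = n * (t * t) * n⁻¹ by group, htt, mul_one,
        mul_inv_cancel]
      exact hone
  have huu : u * u = 1 := by
    rw [hudef, show n * t * n⁻¹ * (n * t * n⁻¹) = n * (t * t) * n⁻¹ by group, htt, mul_one,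
      mul_inv_cancel]
  have htu : t * u = u * t := hab t htP u huP
  have hinvols : ∀ j ∈ (P : Subgroup G), j * j = 1 → j = 1 ∨ j = t ∨ j = u ∨ j = t * u := by
    intro j hj hj2
    by_cases h1 : r1 j
    · rcases hR1 j h1 hj2 with e | e
      · exact Or.inl e
      · exact Or.inr (Or.inl e)
    · have h2 := key hj huP h1 hu1 (hj2 ▸ hone) (huu ▸ hone)
      have e : j * u * (j * u) = 1 := by
        rw [show j * u * (j * u) = j * (u * j) * u by group, ← hab j hj u huP,
          show j * (j * u) * u = j * j * (u * u) by group, hj2, huu, one_mul]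
      have ej : j = j * u * u := by rw [mul_assoc, huu, mul_one]
      rcases hR1 _ h2 e with e' | e'
      · exact Or.inr (Or.inr (Or.inl (by rw [ej, e', one_mul])))
      · exact Or.inr (Or.inr (Or.inr (by rw [ej, e'])))
  have hn2 : n * u * n⁻¹ = t * u := by
    have hP' : n * u * n⁻¹ ∈ (P : Subgroup G) := hconjP u huP
    have h2 : n * u * n⁻¹ * (n * u * n⁻¹) = 1 := by
      rw [show n * u * n⁻¹ * (n * u * n⁻¹) = n * (u * u) * n⁻¹ by group, huu, mul_one, mul_inv_cancel]
    rcases hinvols _ hP' h2 with e | e | e | e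
    · exfalso
      have : u = 1 := conj_eq_one_iff.1 e
      exact hu1 (this ▸ hone)
    · exfalso
      obtain ⟨a, b, hb, hab'⟩ : ∃ a b : ℕ, Odd b ∧ orderOf n = 2 ^ a * b := by
        obtain ⟨a, b, hb, h⟩ := Nat.exists_eq_pow_mul_and_not_dvd (orderOf_pos n).ne' 2 (by norm_num)
        exact ⟨a, b, Nat.odd_iff.2 (Nat.two_dvd_ne_zero.1 hb), h⟩
      have hy : n ^ b ∈ (P : Subgroup G) := hmaxP _
        ⟨a, by rw [← pow_mul, mul_comm, ← hab', pow_orderOf_eq_one]⟩ (pow_mem hnN b)
      obtain ⟨i, rfl⟩ := hb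
      have hswap : ∀ i : ℕ, n ^ (2 * i + 1) * t * (n ^ (2 * i + 1))⁻¹ = u := by
        intro i
        induction i with
        | zero => rw [mul_zero, zero_add, pow_one]
        | succ i ih =>
          rw [show 2 * (i + 1) + 1 = 2 + (2 * i + 1) by ring, pow_add]
          calc n ^ 2 * n ^ (2 * i + 1) * t * (n ^ 2 * n ^ (2 * i + 1))⁻¹
              = n * (n * (n ^ (2 * i + 1) * t * (n ^ (2 * i + 1))⁻¹) * n⁻¹) * n⁻¹ := by
                rw [pow_two]; simp only [mul_inv_rev, mul_assoc]
            _ = u := by rw [ih, e]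
      have := hswap i
      rw [hab _ hy t htP, mul_inv_cancel_right] at this
      exact hnt this.symm
    · exact absurd (mul_left_cancel (mul_right_cancel (e.trans hudef))) fun e' => hnt e'
    · exact e
  have hn3 : n * (t * u) * n⁻¹ = t := by
    rw [show n * (t * u) * n⁻¹ = n * t * n⁻¹ * (n * u * n⁻¹) by group, hn2, ← hudef, ← mul_assoc,
      ← htu, mul_assoc, huu, mul_one]
  -- the four-group
  have hP4 : ∀ r ∈ (P : Subgroup G), r = 1 ∨ r = t ∨ r = u ∨ r = t * u := by
    let hcg : CommGroup (P : Subgroup G) :=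
      { (P : Subgroup G).toGroup with mul_comm := fun a b => Subtype.ext (hab a a.2 b b.2) }
    let φ : MulAut (P : Subgroup G) :=
      { toFun := fun r => ⟨n * r * n⁻¹, hconjP r r.2⟩
        invFun := fun r => ⟨n⁻¹ * r * n, (Subgroup.mem_normalizer_iff.1 hnN _).2 (by
          rw [show n * (n⁻¹ * (r : G) * n) * n⁻¹ = r by group]; exact r.2)⟩
        left_inv := fun r => Subtype.ext (by simp [mul_assoc])
        right_inv := fun r => Subtype.ext (by simp [mul_assoc])
        map_mul' := fun r s => Subtype.ext (by simp [mul_assoc]) }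
    let tP : (P : Subgroup G) := ⟨t, htP⟩
    let uP : (P : Subgroup G) := ⟨u, huP⟩
    have hφt : φ tP = uP := rfl
    have hφu : φ uP = tP * uP := Subtype.ext hn2
    have hφtu : φ (tP * uP) = tP := Subtype.ext hn3
    have hall : ∀ r : (P : Subgroup G), r * r = 1 → r = 1 ∨ r = tP ∨ r = uP ∨ r = tP * uP := by
      intro r hr
      rcases hinvols r r.2 (congrArg Subtype.val hr) with e | e | e | e
      exacts [Or.inl (Subtype.ext e), Or.inr (Or.inl (Subtype.ext e)),
        Or.inr (Or.inr (Or.inl (Subtype.ext e))), Or.inr (Or.inr (Or.inr (Subtype.ext e)))]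
    have htr : ∀ r s : (P : Subgroup G), r ≠ 1 → r ^ 2 = 1 → s ≠ 1 → s ^ 2 = 1 →
        ∃ ψ : MulAut (P : Subgroup G), ψ r = s := by
      have hto : ∀ r : (P : Subgroup G), r ≠ 1 → r ^ 2 = 1 →
          ∃ ψ : MulAut (P : Subgroup G), ψ tP = r := by
        intro r hr hr2
        rcases hall r (by rwa [← pow_two]) with e | e | e | e
        · exact absurd e hr
        · exact ⟨1, e.symm⟩
        · exact ⟨φ, e.symm⟩
        · exact ⟨φ * φ, by rw [MulAut.mul_apply, hφt, hφu, e]⟩
      intro r s hr hr2 hs hs2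
      obtain ⟨ψ, hψ⟩ := hto r hr hr2
      obtain ⟨ψ', hψ'⟩ := hto s hs hs2
      exact ⟨ψ' * ψ⁻¹, by rw [← hψ, MulAut.mul_apply, MulAut.inv_apply_self, hψ']⟩
    obtain ⟨m, hm, ⟨e⟩⟩ := square_of_three_invols (A := (P : Subgroup G)) P.2
      (a := tP) (b := uP) (c := tP * uP) (fun e => hnt (congrArg Subtype.val e).symm)
      ⟨fun e => htne (congrArg Subtype.val e), Subtype.ext htt⟩
      ⟨fun e => hu1 (by rw [show u = 1 from congrArg Subtype.val e]; exact hone), Subtype.ext huu⟩
      hall htr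
    have hinjP : Function.Injective (fun r : (P : Subgroup G) => π (r : G)) := by
      intro r s hrs
      refine Subtype.ext ?_
      have h1 : (r : G)⁻¹ * s ∈ Z(G) := (QuotientGroup.eq_one_iff _).1 (by
        show π ((r : G)⁻¹ * s) = 1
        rw [map_mul, map_inv]
        simp only at hrs
        rw [hrs, inv_mul_cancel])
      exact inv_mul_eq_one.1 (hPinj _ (mul_mem (inv_mem r.2) s.2) h1)
    obtain rfl : m = 1 := by
      by_contra hm1
      let eb : (P : Subgroup G) ≃* (Pb : Subgroup (G ⧸ Z(G))) :=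
        MulEquiv.ofBijective
          ((π.comp (P : Subgroup G).subtype).codRestrict (Pb : Subgroup (G ⧸ Z(G)))
            (fun r => by rw [hPbe]; exact Subgroup.mem_map_of_mem π r.2))
          ⟨fun r s h => hinjP (congrArg Subtype.val h), fun q => by
            have hq : (q : G ⧸ Z(G)) ∈ (P : Subgroup G).map π := by rw [← hPbe]; exact q.2
            obtain ⟨r, hr, he⟩ := Subgroup.mem_map.1 hq
            exact ⟨⟨r, hr⟩, Subtype.ext he⟩⟩
      obtain ⟨hn, -, -⟩ := CfsgLib.Block.HomocyclicBrauer.main (P := Pb) (eb.symm.trans e)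
        (by omega) (fun N hN ho => hG.quot_solvable_eq_bot (CfsgLib.FT.odd_order_solvable ho))
      rcases hn.eq_bot_or_eq_top with h | h
      · refine htne (hPinj t htP ((QuotientGroup.eq_one_iff t).1 (Subgroup.mem_bot.1 ?_)))
        rw [← h, hPbe]
        exact Subgroup.mem_map_of_mem π htP
      · refine hG.quot_not_solvable ?_
        have hs : Group.IsSolvable (Pb : Subgroup (G ⧸ Z(G))) :=
          Group.isSolvable_of_comm fun a b => hPbc.is_comm.comm a b
        exact Group.isSolvable_of_surjective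
          (f := (Pb : Subgroup (G ⧸ Z(G))).subtype) fun q => ⟨⟨q, h ▸ trivial⟩, rfl⟩
    intro r hr
    refine hinvols r hr ?_
    have h2 : e (⟨r, hr⟩ * ⟨r, hr⟩) = 1 := by
      rw [map_mul]
      have : ∀ y : Multiplicative (ZMod (2 ^ 1) × ZMod (2 ^ 1)), y * y = 1 := fun y =>
        Prod.ext (CharTwo.add_self_eq_zero _) (CharTwo.add_self_eq_zero _)
      exact this _
    exact congrArg Subtype.val ((MulEquiv.map_eq_one_iff e).1 h2)
  have hK0n : K0.Normal := MonoidHom.normal_ker _
  clear_value K0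
  refine ⟨t, u, n, K0.map (cen(t)).subtype, ?_⟩
  refine ⟨hw, htt, huu, fun e => hu1 (e ▸ hone), fun e => hnt e.symm, htu, hudef.symm, hn2, hnM,
    ?_, Subgroup.map_subtype_le _, ?_, ?_, ?_, hZ, P, ?_⟩
  · by_contra hcon
    push Not at hcon
    exact hu1 ⟨huP, hcon⟩
  · rwa [Nat.card_congr (Subgroup.equivMapOfInjective K0 _ (cen(t)).subtype_injective).symm.toEquiv]
  · rintro m hm _ ⟨k, hk, rfl⟩
    exact ⟨⟨m, hm⟩ * k * ⟨m, hm⟩⁻¹,
      Subgroup.Normal.conj_mem hK0n k hk _, rfl⟩
  · intro m hm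
    obtain ⟨k, r, hr, rfl⟩ := hdec m hm
    refine ⟨r, hP4 r hr, r⁻¹ * ((k : cen(t)) : G) * r, ?_, by group⟩
    exact ⟨⟨r, hP hr⟩⁻¹ * (k : cen(t)) * ⟨r, hP hr⟩⁻¹⁻¹,
      Subgroup.Normal.conj_mem hK0n _ k.2 _, by simp⟩
  · refine le_antisymm (fun r hr => ?_)
      (sup_le (Subgroup.zpowers_le.2 htP) (Subgroup.zpowers_le.2 huP))
    have a1 := Subgroup.mem_sup_left (T := Subgroup.zpowers u) (Subgroup.mem_zpowers t)
    have a2 := Subgroup.mem_sup_right (S := Subgroup.zpowers t) (Subgroup.mem_zpowers u)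
    rcases hP4 r hr with rfl | rfl | rfl | rfl
    exacts [one_mem _, a1, a2, mul_mem a1 a2]

end CfsgLib.Recog.NonCA
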