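import Cfsg.Agent.Lib.Recog.NonCA.KleinLocal.Setup
import Mathlib.GroupTheory.Transfer

/-!
The structure of `K`: with `D = C_K(u)` and `a, b` inverted by `u`, the commutator of `a` and `b`
is central in the whole group (transfer into `D`, then `Bad.pgroup_comm`).
-/

set_option autoImplicit false
set_option linter.unusedSectionVars false
set_option maxHeartbeats 800000

namespace CfsgLib.Recog.NonCA

universe u

variable {G : Type u} [Group G] [Finite G]

local notation "cen(" x ")" => Subgroup.centralizer ({x} : Set G)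
local notation "Z(G)" => Subgroup.center G

/-- Outside a subgroup, some element of prime power order is a power. -/
theorem exists_primary_notMem (H : Subgroup G) (d : G) (hd : d ∉ H) :
    ∃ q : ℕ, q.Prime ∧ ∃ i j : ℕ, d ^ i ∉ H ∧ (d ^ i) ^ q ^ j = 1 := by
  suffices key : ∀ (o : ℕ) (d : G), orderOf d = o → d ∉ H →
      ∃ q : ℕ, q.Prime ∧ ∃ i j : ℕ, d ^ i ∉ H ∧ (d ^ i) ^ q ^ j = 1 from key _ d rfl hd
  intro o
  induction o using Nat.strong_induction_on with
  | _ o ih =>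
    intro d ho hd
    have ho1 : o ≠ 1 := fun e => hd (by
      rw [orderOf_eq_one_iff.1 (ho.trans e)]; exact one_mem H)
    have ho0 : o ≠ 0 := ho ▸ (orderOf_pos d).ne'
    set q := o.minFac with hq
    have hqp : q.Prime := Nat.minFac_prime ho1
    obtain ⟨a, m, hm, hom⟩ := Nat.exists_eq_pow_mul_and_not_dvd ho0 q hqp.ne_one
    by_cases h1 : d ^ m ∈ H
    · have h2 : d ^ q ^ a ∉ H := by
        intro h2
        apply hd
        have hco : Nat.Coprime (q ^ a) m := ((hqp.coprime_iff_not_dvd).2 hm).pow_left a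
        have e : d = (d ^ q ^ a) ^ (Nat.gcdA (q ^ a) m) * (d ^ m) ^ (Nat.gcdB (q ^ a) m) := by
          rw [← zpow_natCast d (q ^ a), ← zpow_natCast d m, ← zpow_mul, ← zpow_mul, ← zpow_add,
            ← Nat.gcd_eq_gcd_ab, hco.gcd_eq_one, Nat.cast_one, zpow_one]
        rw [e]
        exact mul_mem (zpow_mem h2 _) (zpow_mem h1 _)
      have ha : a ≠ 0 := by
        rintro rfl
        exact hm (by rw [pow_zero, one_mul] at hom; exact hom ▸ Nat.minFac_dvd o)
      have hlt : orderOf (d ^ q ^ a) < o := by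
        have hqa : 1 < q ^ a := Nat.one_lt_pow ha hqp.one_lt
        rw [orderOf_pow_of_dvd (by positivity) (ho ▸ hom ▸ dvd_mul_right _ _), ho]
        exact Nat.div_lt_self (by omega) hqa
      obtain ⟨r, hr, i, j, hi, hj⟩ := ih _ hlt _ rfl h2
      exact ⟨r, hr, q ^ a * i, j, by rwa [pow_mul], by rwa [pow_mul]⟩
    · exact ⟨q, hqp, m, a, h1, by rw [← pow_mul, mul_comm, ← hom, ← ho, pow_orderOf_eq_one]⟩

namespace Frame

variable {t u n : G} {K : Subgroup G}

theorem tM (_h : Frame t u n K) : t ∈ cen(t) := self_mem_cen t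

theorem uM (h : Frame t u n K) : u ∈ cen(t) := mem_cen.2 h.htu.symm

theorem u_bad (h : Frame t u n K) : Bad u := h.hn1 ▸ h.bad.conj n

theorem uinv (h : Frame t u n K) : u⁻¹ = u := inv_eq_of_mul_eq_one_right h.uu

theorem tinv (h : Frame t u n K) : t⁻¹ = t := inv_eq_of_mul_eq_one_right h.tt

theorem odd_order (h : Frame t u n K) {k : G} (hk : k ∈ K) : Odd (orderOf k) :=
  h.hKodd.of_dvd_nat (by rw [← Subgroup.orderOf_mk k hk]; exact orderOf_dvd_natCard _)

theorem sq_eq_one (h : Frame t u n K) {k : G} (hk : k ∈ K) (h2 : k * k = 1) : k = 1 := by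
  have h1 : orderOf k ∣ 2 := orderOf_dvd_of_pow_eq_one (by rw [pow_two, h2])
  rcases (Nat.dvd_prime Nat.prime_two).1 h1 with e | e
  · exact orderOf_eq_one_iff.1 e
  · have := h.odd_order hk
    rw [e] at this
    exact absurd this (by decide)

theorem exists_root (h : Frame t u n K) {k : G} (hk : k ∈ K) : ∃ i : ℕ, k ^ i * k ^ i = k := by
  obtain ⟨i, hi⟩ := h.odd_order hk
  refine ⟨i + 1, ?_⟩
  rw [← pow_add, show i + 1 + (i + 1) = orderOf k + 1 by omega, pow_succ, pow_orderOf_eq_one,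
    one_mul]

theorem mem_K_of_odd (h : Frame t u n K) {m : G} (hm : m ∈ cen(t)) (ho : Odd (orderOf m)) :
    m ∈ K := by
  obtain ⟨w, hw, k, hk, hmk⟩ := h.decomp m hm
  have hw2 : w * w = 1 ∧ w ∈ cen(t) := by
    rcases hw with rfl | rfl | rfl | rfl
    · exact ⟨one_mul 1, one_mem _⟩
    · exact ⟨h.tt, h.tM⟩
    · exact ⟨h.uu, h.uM⟩
    · refine ⟨?_, mul_mem h.tM h.uM⟩
      rw [show t * u * (t * u) = t * (u * t) * u by group, ← h.htu,
        show t * (t * u) * u = t * t * (u * u) by group, h.tt, h.uu, one_mul]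
  have h2 : m * m ∈ K := by
    rw [hmk, show w * k * (w * k) = w * k * w⁻¹ * (w * w) * k by group, hw2.1, mul_one]
    exact mul_mem (h.hKn w hw2.2 k hk) hk
  obtain ⟨i, hi⟩ := ho
  have e : m = (m * m) ^ (i + 1) := by
    rw [← pow_two, ← pow_mul, show 2 * (i + 1) = orderOf m + 1 by omega, pow_succ,
      pow_orderOf_eq_one, one_mul]
  rw [e]
  exact pow_mem h2 _

theorem center_le (h : Frame t u n K) : Z(G) ≤ K := fun z hz =>
  h.mem_K_of_odd (mem_cen.2 (mem_center.1 hz t).symm)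
    (h.zodd.of_dvd_nat (by rw [← Subgroup.orderOf_mk z hz]; exact orderOf_dvd_natCard _))

theorem conjK (h : Frame t u n K) {k : G} (hk : k ∈ K) : u * k * u⁻¹ ∈ K := h.hKn u h.uM k hk

theorem conjconj (h : Frame t u n K) (k : G) : u * (u * k * u⁻¹) * u⁻¹ = k := by
  rw [show u * (u * k * u⁻¹) * u⁻¹ = u * u * k * (u * u)⁻¹ by group, h.uu]; group

theorem fix_of_comm (h : Frame t u n K) {d : G} (hd : d ∈ cen(u)) : u * d * u⁻¹ = d := by
  rw [← mem_cen.1 hd, mul_inv_cancel_right]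

theorem comm_of_fix (h : Frame t u n K) {d : G} (hd : u * d * u⁻¹ = d) : d ∈ cen(u) :=
  mem_cen.2 (mul_inv_eq_iff_eq_mul.1 hd).symm

/-- `K` is the product of the fixed and the inverted elements. -/
theorem decompK (h : Frame t u n K) {k : G} (hk : k ∈ K) :
    ∃ d a : G, d ∈ K ∧ d ∈ cen(u) ∧ a ∈ K ∧ u * a * u⁻¹ = a⁻¹ ∧ k = d * a := by
  set y := k⁻¹ * (u * k * u⁻¹) with hy
  have hyK : y ∈ K := mul_mem (inv_mem hk) (h.conjK hk)
  have hyu : u * y * u⁻¹ = y⁻¹ := by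
    rw [hy, show u * (k⁻¹ * (u * k * u⁻¹)) * u⁻¹ = (u * k * u⁻¹)⁻¹ * (u * (u * k * u⁻¹) * u⁻¹) by
      group, h.conjconj]
    group
  obtain ⟨i, hi⟩ := h.exists_root hyK
  have hru : u * y ^ i * u⁻¹ = (y ^ i)⁻¹ := by rw [← conj_pow, hyu, inv_pow]
  refine ⟨k * y ^ i, (y ^ i)⁻¹, mul_mem hk (pow_mem hyK i), h.comm_of_fix ?_,
    inv_mem (pow_mem hyK i), ?_, by group⟩
  · calc u * (k * y ^ i) * u⁻¹ = (u * k * u⁻¹) * (u * y ^ i * u⁻¹) := by group
      _ = k * y * (y ^ i)⁻¹ := by rw [hru, hy]; group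
      _ = k * (y ^ i * y ^ i) * (y ^ i)⁻¹ := by rw [hi]
      _ = k * y ^ i := by group
  · rw [show u * (y ^ i)⁻¹ * u⁻¹ = (u * y ^ i * u⁻¹)⁻¹ by group, hru]

variable (hG : Hyp G)

include hG

theorem commD (h : Frame t u n K) {a b : G} (ha : a ∈ K) (hau : a ∈ cen(u)) (hb : b ∈ K)
    (hbu : b ∈ cen(u)) : a * b = b * a := by
  obtain ⟨m, hm, hmu⟩ := h.hu
  exact hG.commute_of h.bad.ne_top h.uM (h.hKM ha) (h.hKM hb) hm (mem_cen.1 hau) (mem_cen.1 hbu)
    hmu

/-- A fixed element not central in `M` is centralised in `K` only by fixed elements. -/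
theorem fixed_of_comm (h : Frame t u n K) {d k : G} (hd : d ∈ K) (hdu : d ∈ cen(u))
    (hdc : d ∉ Subgroup.centralizer (cen(t) : Set G)) (hk : k ∈ K) (hkd : k * d = d * k) :
    k ∈ cen(u) := by
  obtain ⟨m, hm, hmd⟩ : ∃ m ∈ cen(t), m * d ≠ d * m := by
    by_contra hcon
    push Not at hcon
    exact hdc (Subgroup.mem_centralizer_iff.2 hcon)
  exact mem_cen.2 (hG.commute_of h.bad.ne_top (h.hKM hd) (h.hKM hk) h.uM hm hkd
    (mem_cen.1 hdu).symm hmd)

theorem exists_inv (h : Frame t u n K) : ∃ a ∈ K, u * a * u⁻¹ = a⁻¹ ∧ a ≠ 1 := by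
  obtain ⟨m, hm, hmu⟩ := h.hu
  obtain ⟨w, hw, k, hk, rfl⟩ := h.decomp m hm
  have hwu : Commute w u := by
    rcases hw with e | e | e | e <;> rw [e]
    exacts [Commute.one_left u, h.htu, (show Commute t u from h.htu).mul_left (Commute.refl u)]
  obtain ⟨d, a, hdK, hdu, haK, hau, rfl⟩ := h.decompK hk
  refine ⟨a, haK, hau, fun e => hmu ?_⟩
  rw [e, mul_one]
  exact (hwu.mul_left (show Commute d u from mem_cen.1 hdu)).eq

/-- Only fixed elements normalise the fixed subgroup. -/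
theorem fixed_of_norm (h : Frame t u n K) {d s : G} (hd : d ∈ K) (hdu : d ∈ cen(u))
    (hdc : d ∉ Subgroup.centralizer (cen(t) : Set G)) (hs : s ∈ K)
    (hn : ∀ x ∈ K, x ∈ cen(u) → s * x * s⁻¹ ∈ cen(u)) : s ∈ cen(u) := by
  set c := s⁻¹ * (u * s * u⁻¹) with hc
  have hcK : c ∈ K := mul_mem (inv_mem hs) (h.conjK hs)
  have hcd : c * d = d * c := by
    have h1 := h.fix_of_comm (hn d hd hdu)
    have e1 : u * s * u⁻¹ * d * (u * s * u⁻¹)⁻¹ = s * d * s⁻¹ := by
      calc u * s * u⁻¹ * d * (u * s * u⁻¹)⁻¹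
          = u * (s * (u⁻¹ * d * u) * s⁻¹) * u⁻¹ := by group
        _ = u * (s * d * s⁻¹) * u⁻¹ := by
            rw [show u⁻¹ * d * u = d by rw [mul_assoc, mem_cen.1 hdu, inv_mul_cancel_left]]
        _ = s * d * s⁻¹ := h1
    calc c * d = s⁻¹ * (u * s * u⁻¹ * d * (u * s * u⁻¹)⁻¹) * (u * s * u⁻¹) := by rw [hc]; group
      _ = d * c := by rw [e1, hc]; group
  have h2 := h.fix_of_comm (h.fixed_of_comm hG hd hdu hdc hcK hcd)
  have h3 : u * c * u⁻¹ = c⁻¹ := by
    rw [hc, show u * (s⁻¹ * (u * s * u⁻¹)) * u⁻¹ = (u * s * u⁻¹)⁻¹ * (u * (u * s * u⁻¹) * u⁻¹) by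
      group, h.conjconj]
    group
  have h4 : c = 1 := h.sq_eq_one hcK (by rw [mul_eq_one_iff_eq_inv, ← h3, h2])
  exact h.comm_of_fix (inv_mul_eq_one.1 h4).symm

omit hG in
theorem central_conj {m : G} (hm : m ∈ cen(t)) {x : G}
    (hx : x ∈ Subgroup.centralizer (cen(t) : Set G)) : m * x * m⁻¹ = x := by
  rw [Subgroup.mem_centralizer_iff.1 hx m hm, mul_inv_cancel_right]

/-- Inverted elements commute modulo the centre of `M`. -/
theorem comm_central (h : Frame t u n K) {a b : G} (ha : a ∈ K) (hau : u * a * u⁻¹ = a⁻¹)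
    (hb : b ∈ K) (hbu : u * b * u⁻¹ = b⁻¹) :
    a * b * a⁻¹ * b⁻¹ ∈ Subgroup.centralizer (cen(t) : Set G) := by
  classical
  set Z1 := Subgroup.centralizer (cen(t) : Set G) with hZ1
  set DK : Subgroup K := (cen(u)).subgroupOf K with hDK
  have hmem : ∀ {x : K}, x ∈ DK ↔ (x : G) ∈ cen(u) := fun {x} => Subgroup.mem_subgroupOf
  letI : CommGroup DK := { DK.toGroup with
    mul_comm := fun x y => Subtype.ext (Subtype.ext (h.commD hG x.1.2 (hmem.1 x.2) y.1.2
      (hmem.1 y.2))) }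
  let τ : K →* DK := MonoidHom.transfer (MonoidHom.id DK)
  let σ : K →* K :=
    { toFun := fun k => ⟨u * k * u⁻¹, h.conjK k.2⟩
      map_one' := Subtype.ext (by simp)
      map_mul' := fun x y => Subtype.ext (by simp) }
  let τ' : K →* DK := τ * τ.comp σ
  have hker : ∀ x : K, u * (x : G) * u⁻¹ = (x : G)⁻¹ → τ' x = 1 := by
    intro x hx
    have e : σ x = x⁻¹ := Subtype.ext hx
    show τ x * τ (σ x) = 1
    rw [e, map_inv, mul_inv_cancel]
  have hfix : ∀ d : K, (d : G) ∈ cen(u) → τ' d = 1 → (d : G) ∈ Z1 := by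
    intro d hdu hτ
    by_contra hdc
    -- the transfer is a power on the fixed subgroup
    have key : ∀ (k : ℕ) (g₀ : K), g₀⁻¹ * d ^ k * g₀ ∈ DK → g₀⁻¹ * d ^ k * g₀ = d ^ k := by
      intro k g₀ hk
      by_cases hc : ((d ^ k : K) : G) ∈ Z1
      · refine Subtype.ext ?_
        have := central_conj (h.hKM (inv_mem g₀.2)) hc
        simpa using this
      · refine Subtype.ext ?_
        set d' : G := ((g₀⁻¹ * d ^ k * g₀ : K) : G) with hd'
        have hd'u : d' ∈ cen(u) := hmem.1 hk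
        have hdku : ((d ^ k : K) : G) ∈ cen(u) := by
          rw [SubmonoidClass.coe_pow]; exact pow_mem hdu k
        have hg : (g₀ : G) ∈ cen(u) := by
          refine h.fixed_of_norm hG (d ^ k : K).2 hdku hc g₀.2 fun x hx hxu => ?_
          refine h.fixed_of_comm hG (d ^ k : K).2 hdku hc
            (mul_mem (mul_mem g₀.2 hx) (inv_mem g₀.2)) ?_
          have hcm : x * d' = d' * x := h.commD hG hx hxu (g₀⁻¹ * d ^ k * g₀ : K).2 hd'u
          rw [hd'] at hcm
          simp only [Subgroup.coe_mul, InvMemClass.coe_inv] at hcm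
          calc (g₀ : G) * x * (g₀ : G)⁻¹ * ((d ^ k : K) : G)
              = (g₀ : G) * (x * ((g₀ : G)⁻¹ * ((d ^ k : K) : G) * g₀)) * (g₀ : G)⁻¹ := by group
            _ = (g₀ : G) * ((g₀ : G)⁻¹ * ((d ^ k : K) : G) * g₀ * x) * (g₀ : G)⁻¹ := by rw [hcm]
            _ = ((d ^ k : K) : G) * ((g₀ : G) * x * (g₀ : G)⁻¹) := by group
        rw [hd']
        simp only [Subgroup.coe_mul, InvMemClass.coe_inv]
        rw [mul_assoc, h.commD hG (d ^ k : K).2 hdku g₀.2 hg, inv_mul_cancel_left]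
    have hσd : σ d = d := Subtype.ext (h.fix_of_comm hdu)
    have hpow : (d : G) ^ (DK.index + DK.index) = 1 := by
      have h1 : τ d * τ d = 1 := by
        have h0 : τ d * τ (σ d) = 1 := hτ
        rwa [hσd] at h0
      have h2 := congrArg (fun x : DK => ((x : K) : G)) h1
      rw [show τ d = _ from MonoidHom.transfer_eq_pow (MonoidHom.id DK) d key] at h2
      simpa [pow_add] using h2
    obtain ⟨q, hq, i, j, hi, hj⟩ := exists_primary_notMem Z1 (d : G) hdc
    have : Fact q.Prime := ⟨hq⟩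
    set x : K := d ^ i with hx
    have hxG : (x : G) = (d : G) ^ i := by rw [hx]; exact SubmonoidClass.coe_pow d i
    have hxD : x ∈ DK := hmem.2 (by rw [hxG]; exact pow_mem hdu i)
    have hxc : (x : G) ∉ Z1 := by rw [hxG]; exact hi
    have hxq : IsPGroup q (Subgroup.zpowers (⟨x, hxD⟩ : DK)) := by
      obtain ⟨j', -, hj'⟩ := (Nat.dvd_prime_pow hq).1 (orderOf_dvd_of_pow_eq_one hj)
      refine IsPGroup.of_card (n := j') ?_
      rw [Nat.card_zpowers, Subgroup.orderOf_mk, ← Subgroup.orderOf_coe, hxG, hj']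
    have hqi : q ∣ DK.index := by
      have h1 : q ∣ orderOf (x : G) := by
        obtain ⟨j', -, hj'⟩ := (Nat.dvd_prime_pow hq).1 (orderOf_dvd_of_pow_eq_one hj)
        rw [hxG, hj']
        rcases j' with _ | j'
        · exact absurd (orderOf_eq_one_iff.1 hj') fun e => hi (e ▸ one_mem Z1)
        · exact dvd_pow_self q (Nat.succ_ne_zero j')
      have hq2 : q ≠ 2 := fun e => by
        have := (h.odd_order x.2).of_dvd_nat (e ▸ h1)
        exact absurd this (by decide)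
      have h2 : q ∣ DK.index + DK.index := h1.trans ((hxG ▸ orderOf_pow_dvd i).trans
        (orderOf_dvd_of_pow_eq_one hpow))
      rw [← two_mul] at h2
      exact (hq.dvd_mul.1 h2).resolve_left fun e => hq2
        ((Nat.prime_dvd_prime_iff_eq hq Nat.prime_two).1 e)
    obtain ⟨R, hR⟩ := hxq.exists_le_sylow
    set R' : Subgroup K := (R : Subgroup DK).map DK.subtype with hR'
    obtain ⟨T, hT⟩ := (R.2.map DK.subtype).exists_le_sylow
    have hlt : R' < (T : Subgroup K) := lt_of_le_of_ne hT fun e => T.not_dvd_index (hqi.trans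
      (Subgroup.index_dvd_of_le (e ▸ Subgroup.map_subtype_le _)))
    obtain ⟨y, hyT, hyR, hyN⟩ := exists_normalizer_step T.2 hlt
    have hTD : ∀ z : K, z ∈ (T : Subgroup K) → z ∈ DK → z ∈ R' := by
      intro z hz hzD
      have hle : (R : Subgroup DK) ≤ (T : Subgroup K).subgroupOf DK := fun r hr =>
        Subgroup.mem_subgroupOf.2 (hT (Subgroup.mem_map_of_mem _ hr))
      have hp : IsPGroup q ((T : Subgroup K).subgroupOf DK) :=
        T.2.comap_of_injective DK.subtype Subtype.val_injective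
      have e := R.is_maximal' hp hle
      refine Subgroup.mem_map.2 ⟨⟨z, hzD⟩, ?_, rfl⟩
      rw [← e]
      exact Subgroup.mem_subgroupOf.2 hz
    refine hyR (hTD y hyT (hmem.2 ?_))
    have hxR : x ∈ R' := Subgroup.mem_map.2 ⟨⟨x, hxD⟩, hR (Subgroup.mem_zpowers _), rfl⟩
    have hx'R : y * x * y⁻¹ ∈ R' := (Subgroup.mem_normalizer_iff.1 hyN x).1 hxR
    set x' : G := ((y * x * y⁻¹ : K) : G) with hx'
    have hx'u : x' ∈ cen(u) := hmem.1 (Subgroup.map_subtype_le _ hx'R)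
    have hx'c : x' ∉ Z1 := fun hc => hxc (by
      have e := central_conj (h.hKM (inv_mem y.2)) hc
      have e' : (x : G) = x' := by
        rw [← e, hx']
        simp [mul_assoc]
      exact e' ▸ hc)
    refine h.fixed_of_norm hG (y * x * y⁻¹ : K).2 hx'u hx'c y.2 fun z hz hzu => ?_
    refine h.fixed_of_comm hG (y * x * y⁻¹ : K).2 hx'u hx'c
      (mul_mem (mul_mem y.2 hz) (inv_mem y.2)) ?_
    have hcm : z * (x : G) = x * z := h.commD hG hz hzu x.2 (hmem.1 hxD)
    simp only [Subgroup.coe_mul, InvMemClass.coe_inv]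
    calc (y : G) * z * (y : G)⁻¹ * ((y : G) * x * (y : G)⁻¹)
        = (y : G) * (z * (x : G)) * (y : G)⁻¹ := by group
      _ = (y : G) * ((x : G) * z) * (y : G)⁻¹ := by rw [hcm]
      _ = (y : G) * x * (y : G)⁻¹ * ((y : G) * z * (y : G)⁻¹) := by group
  -- elements of the kernel are inverted modulo `Z1`
  have hN : ∀ x : K, τ' x = 1 → u * (x : G) * u⁻¹ * x ∈ Z1 ∧ (x : G) * (u * x * u⁻¹) ∈ Z1 := by
    intro x hx
    obtain ⟨d, r, hd, hdu, hr, hru, he⟩ := h.decompK x.2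
    have hxd : x = ⟨d, hd⟩ * ⟨r, hr⟩ := Subtype.ext he
    have hτd : τ' ⟨d, hd⟩ = 1 := by
      rw [hxd, map_mul, hker ⟨r, hr⟩ hru, mul_one] at hx
      exact hx
    have hc : d ∈ Z1 := hfix ⟨d, hd⟩ hdu hτd
    have h1 : u * (x : G) * u⁻¹ = d * r⁻¹ := by
      rw [he, show u * (d * r) * u⁻¹ = (u * d * u⁻¹) * (u * r * u⁻¹) by group, h.fix_of_comm hdu,
        hru]
    rw [h1, he]
    constructor
    · rw [show d * r⁻¹ * (d * r) = d * (r⁻¹ * d * r⁻¹⁻¹) by group,
        central_conj (h.hKM (inv_mem hr)) hc]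
      exact mul_mem hc hc
    · rw [show d * r * (d * r⁻¹) = d * (r * d * r⁻¹) by group, central_conj (h.hKM hr) hc]
      exact mul_mem hc hc
  have := (hN (⟨a, ha⟩ * ⟨b, hb⟩) (by rw [map_mul, hker _ hau, hker _ hbu, one_mul])).2
  simp only [Subgroup.coe_mul] at this
  rwa [show u * (a * b) * u⁻¹ = (u * a * u⁻¹) * (u * b * u⁻¹) by group, hau, hbu,
    show a * b * (a⁻¹ * b⁻¹) = a * b * a⁻¹ * b⁻¹ by group] at this

omit hG in
theorem n_conj_mem (h : Frame t u n K) {z : G} (hzM : z ∈ cen(t)) (hzu : z ∈ cen(u)) :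
    n * z * n⁻¹ ∈ cen(t) ∧ n * z * n⁻¹ ∈ cen(u) := by
  have h3 : n * (t * u) * n⁻¹ = t := by
    calc n * (t * u) * n⁻¹ = (n * t * n⁻¹) * (n * u * n⁻¹) := by group
      _ = t := by rw [h.hn1, h.hn2, ← mul_assoc, ← h.htu, mul_assoc, h.uu, mul_one]
  have hc : z * (t * u) = t * u * z :=
    ((show Commute z t from mem_cen.1 hzM).mul_right (mem_cen.1 hzu)).eq
  refine ⟨mem_cen.2 ?_, mem_cen.2 ?_⟩
  · rw [← h3]
    calc n * z * n⁻¹ * (n * (t * u) * n⁻¹) = n * (z * (t * u)) * n⁻¹ := by group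
      _ = n * (t * u * z) * n⁻¹ := by rw [hc]
      _ = n * (t * u) * n⁻¹ * (n * z * n⁻¹) := by group
  · rw [← h.hn1]
    calc n * z * n⁻¹ * (n * t * n⁻¹) = n * (z * t) * n⁻¹ := by group
      _ = n * (t * z) * n⁻¹ := by rw [mem_cen.1 hzM]
      _ = n * t * n⁻¹ * (n * z * n⁻¹) := by group

omit hG in
theorem conjn_fixed (h : Frame t u n K) {d : G} (hd : d ∈ K) (hdu : d ∈ cen(u)) :
    n * d * n⁻¹ ∈ K ∧ n * d * n⁻¹ ∈ cen(u) := by
  obtain ⟨h1, h2⟩ := h.n_conj_mem (h.hKM hd) hdu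
  refine ⟨h.mem_K_of_odd h1 ?_, h2⟩
  have e : orderOf (n * d * n⁻¹) = orderOf d :=
    orderOf_injective (MulAut.conj n).toMonoidHom (MulEquiv.injective _) d
  rw [e]
  exact h.odd_order hd

/-- A non-central element centralised by `M` has centraliser `M`. -/
theorem cen_of_central (h : Frame t u n K) {c : G} (hcZ : c ∉ Z(G))
    (hc : c ∈ Subgroup.centralizer (cen(t) : Set G)) : Bad c ∧ cen(c) = cen(t) := by
  have e := h.bad.eq_of_mem hG hcZ (Subgroup.mem_centralizer_iff.1 hc)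
  exact ⟨⟨hcZ, e.symm ▸ h.bad.2⟩, e⟩

/-- Inverted elements commute modulo the centre. -/
theorem comm_center (h : Frame t u n K) {a b : G} (ha : a ∈ K) (hau : u * a * u⁻¹ = a⁻¹)
    (hb : b ∈ K) (hbu : u * b * u⁻¹ = b⁻¹) : a * b * a⁻¹ * b⁻¹ ∈ Z(G) := by
  classical
  set c := a * b * a⁻¹ * b⁻¹ with hc
  have hcC := h.comm_central hG ha hau hb hbu
  rw [← hc] at hcC
  have hcomm : ∀ {m}, m ∈ cen(t) → Commute m c := fun hm =>
    Subgroup.mem_centralizer_iff.1 hcC _ hm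
  by_contra hcZ
  obtain ⟨q, hq, i, j, hi, hj⟩ := exists_primary_notMem Z(G) c hcZ
  have : Fact q.Prime := ⟨hq⟩
  obtain ⟨α, A, hA, hoa⟩ := Nat.exists_eq_pow_mul_and_not_dvd (orderOf_pos a).ne' q hq.ne_one
  obtain ⟨β, B, hB, hob⟩ := Nat.exists_eq_pow_mul_and_not_dvd (orderOf_pos b).ne' q hq.ne_one
  have hL : ∀ k : ℕ, a ^ k * b * (a ^ k)⁻¹ = c ^ k * b := by
    intro k
    induction k with
    | zero => simp
    | succ k ih =>
      calc a ^ (k + 1) * b * (a ^ (k + 1))⁻¹ = a * (a ^ k * b * (a ^ k)⁻¹) * a⁻¹ := by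
            rw [pow_succ']; group
        _ = a * c ^ k * (b * a⁻¹) := by rw [ih]; group
        _ = c ^ k * a * (b * a⁻¹) := by rw [((hcomm (h.hKM ha)).pow_right k).eq]
        _ = c ^ k * (c * b) := by rw [hc]; group
        _ = c ^ (k + 1) * b := by rw [pow_succ]; group
  have hR : ∀ k l : ℕ, a ^ k * b ^ l * (a ^ k)⁻¹ = c ^ (k * l) * b ^ l := by
    intro k l
    rw [← conj_pow, hL, ((hcomm (h.hKM hb)).pow_right k).symm.mul_pow, ← pow_mul]
  set a1 := a ^ A with ha1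
  set b1 := b ^ B with hb1
  set z := c ^ (A * B) with hz
  have hrel : a1 * b1 * a1⁻¹ = z * b1 := hR A B
  have hzZ : z ∉ Z(G) := by
    intro hzZ
    apply hi
    have h1 : (c ^ i) ^ (A * B) ∈ Z(G) := by
      rw [← pow_mul, mul_comm, pow_mul]; exact pow_mem hzZ i
    have hco : Nat.Coprime (A * B) (q ^ j) :=
      (Nat.Coprime.mul_left ((hq.coprime_iff_not_dvd).2 hA).symm
        ((hq.coprime_iff_not_dvd).2 hB).symm).pow_right j
    have e : c ^ i = ((c ^ i) ^ (A * B)) ^ (Nat.gcdA (A * B) (q ^ j)) *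
        ((c ^ i) ^ q ^ j) ^ (Nat.gcdB (A * B) (q ^ j)) := by
      rw [← zpow_natCast (c ^ i) (A * B), ← zpow_natCast (c ^ i) (q ^ j), ← zpow_mul, ← zpow_mul,
        ← zpow_add, ← Nat.gcd_eq_gcd_ab, hco.gcd_eq_one, Nat.cast_one, zpow_one]
    rw [e, hj, one_zpow, mul_one]
    exact zpow_mem h1 _
  have hzC : z ∈ Subgroup.centralizer (cen(t) : Set G) := pow_mem hcC _
  obtain ⟨hzb, hzcen⟩ := h.cen_of_central hG hzZ hzC
  have hzt : z ∈ cen(t) := mem_cen.2 (Subgroup.mem_centralizer_iff.1 hzC t h.tM).symm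
  have hzu : z ∈ cen(u) := mem_cen.2 (Subgroup.mem_centralizer_iff.1 hzC u h.uM).symm
  have hzq : ∃ j, z ^ q ^ j = 1 := by
    refine ⟨α, ?_⟩
    have hca : c ^ orderOf a = 1 := by
      have := hL (orderOf a)
      rw [pow_orderOf_eq_one] at this
      simpa using this
    rw [hz, ← pow_mul, show A * B * q ^ α = q ^ α * A * B by ring, pow_mul, ← hoa, hca, one_pow]
  have pgrp : ∀ x : G, ∀ e : ℕ, x ^ q ^ e = 1 → IsPGroup q (Subgroup.zpowers x) := fun x e he => by
    obtain ⟨e', -, he'⟩ := (Nat.dvd_prime_pow hq).1 (orderOf_dvd_of_pow_eq_one he)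
    exact IsPGroup.of_card (n := e') (by rw [Nat.card_zpowers, he'])
  have hqa : IsPGroup q (Subgroup.zpowers a1) :=
    pgrp a1 α (by rw [ha1, ← pow_mul, mul_comm, ← hoa, pow_orderOf_eq_one])
  have hqb : IsPGroup q (Subgroup.zpowers b1) :=
    pgrp b1 β (by rw [hb1, ← pow_mul, mul_comm, ← hob, pow_orderOf_eq_one])
  obtain ⟨jz, hjz⟩ := hzq
  have hzm : ∀ {m}, m ∈ cen(t) → Commute m z := fun hm =>
    Subgroup.mem_centralizer_iff.1 hzC _ hm
  have hb1M : b1 ∈ cen(t) := pow_mem (h.hKM hb) B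
  have ha1M : a1 ∈ cen(t) := pow_mem (h.hKM ha) A
  have hz_le : Subgroup.zpowers b1 ≤ Subgroup.normalizer (Subgroup.zpowers z : Set G) := by
    rw [Subgroup.zpowers_le]
    refine Subgroup.mem_normalizer_iff.2 fun r => ⟨fun hr => ?_, fun hr => ?_⟩
    · obtain ⟨k, rfl⟩ := Subgroup.mem_zpowers_iff.1 hr
      rw [((hzm hb1M).zpow_right k).eq, mul_inv_cancel_right]
      exact Subgroup.zpow_mem_zpowers z k
    · obtain ⟨k, hk⟩ := Subgroup.mem_zpowers_iff.1 hr
      have e : r = z ^ k := by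
        rw [show r = b1⁻¹ * (b1 * r * b1⁻¹) * b1 by group, ← hk, mul_assoc,
          ← ((hzm hb1M).zpow_right k).eq, inv_mul_cancel_left]
      exact e ▸ Subgroup.zpow_mem_zpowers z k
  set A0 := Subgroup.zpowers z ⊔ Subgroup.zpowers b1 with hA0
  have hA0p : IsPGroup q A0 := (pgrp z jz hjz).to_sup_of_normal_left' hqb hz_le
  have hconjA : ∀ r ∈ A0, a1 * r * a1⁻¹ ∈ A0 := by
    intro r hr
    have hle : A0 ≤ A0.comap (MulAut.conj a1).toMonoidHom := by
      rw [hA0, sup_le_iff, Subgroup.zpowers_le, Subgroup.zpowers_le]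
      refine ⟨?_, ?_⟩
      · show a1 * z * a1⁻¹ ∈ A0
        rw [(hzm ha1M).eq, mul_inv_cancel_right]
        exact Subgroup.mem_sup_left (Subgroup.mem_zpowers z)
      · show a1 * b1 * a1⁻¹ ∈ A0
        rw [hrel]
        exact mul_mem (Subgroup.mem_sup_left (Subgroup.mem_zpowers z))
          (Subgroup.mem_sup_right (Subgroup.mem_zpowers b1))
    exact hle hr
  have haN : Subgroup.zpowers a1 ≤ Subgroup.normalizer (A0 : Set G) := by
    rw [Subgroup.zpowers_le]
    have hfin : Set.Finite (A0 : Set G) := Set.toFinite _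
    refine Subgroup.mem_normalizer_iff.2 fun r => ⟨hconjA r, fun hr => ?_⟩
    obtain ⟨⟨s, hs⟩, e⟩ := Finite.surjective_of_injective
      (f := fun x : A0 => (⟨a1 * x * a1⁻¹, hconjA x x.2⟩ : A0))
      (fun x y e => Subtype.ext (mul_left_cancel (mul_right_cancel (congrArg Subtype.val e))))
      ⟨a1 * r * a1⁻¹, hr⟩
    exact (mul_left_cancel (mul_right_cancel (congrArg Subtype.val e))) ▸ hs
  have hQ : IsPGroup q (A0 ⊔ Subgroup.zpowers a1 : Subgroup G) :=
    hA0p.to_sup_of_normal_left' hqa haN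
  have hle : A0 ⊔ Subgroup.zpowers a1 ≤ cen(z) := by
    rw [hzcen, hA0, sup_le_iff, sup_le_iff, Subgroup.zpowers_le, Subgroup.zpowers_le,
      Subgroup.zpowers_le]
    exact ⟨⟨hzt, hb1M⟩, ha1M⟩
  have hab := hzb.pgroup_comm hG (g := n) (hzcen ▸ h.hnM)
    (hzcen ▸ (h.n_conj_mem hzt hzu).1) ⟨jz, hjz⟩ _ hQ hle a1
    (Subgroup.mem_sup_right (Subgroup.mem_zpowers a1)) b1
    (Subgroup.mem_sup_left (Subgroup.mem_sup_right (Subgroup.mem_zpowers b1)))
  refine hzZ ?_
  have hz1 : z = 1 := by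
    have := hrel
    rw [hab, mul_inv_cancel_right] at this
    exact mul_eq_right.1 this.symm
  rw [hz1]
  exact one_mem _

end Frame

end CfsgLib.Recog.NonCA
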